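import Groth.Prelude.Def_AlgSpRep
import Groth.Agent.L23.SpacesTopLift
import Groth.Agent.L23.Glue
import Groth.Agent.L24.St.SieveDescent
import Mathlib.AlgebraicGeometry.Morphisms.UniversallyOpen

/-!
# Zariski sheaves covered by subsheaves with representable inclusions are fppf sheaves
-/

universe u v

open CategoryTheory CategoryTheory.Limits AlgebraicGeometry Opposite AlgSp

set_option autoImplicit false
set_option linter.style.haveILetI false
set_option backward.isDefEq.respectTransparency false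
set_option backward.isDefEq.respectTransparency.types false

noncomputable section

namespace Groth.L09.SubsheafCover

variable {S : Scheme.{u}} {F G : PSp S}

/-- Membership in the image descends along coverings. -/
theorem mem_range_of_cover (m : G ⟶ F) [Mono m] (hm : RepBySp m) {T : Over S} (x : F.obj (op T))
    {R : Sieve T} (hR : R ∈ J S T)
    (h : ∀ ⦃T' : Over S⦄ (f : T' ⟶ T), R.arrows f → F.map f.op x ∈ Set.range (m.app (op T'))) :
    x ∈ Set.range (m.app (op T)) := by
  let ξ : (pyon S).obj T ⟶ F := uliftYonedaEquiv.{u + 1}.symm x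
  have hξ : ∀ {T' : Over S} (f : T' ⟶ T), ξ.app (op T') (ULift.up f) = F.map f.op x := fun f => by
    show (uliftYonedaEquiv.{u + 1}.symm x).app _ _ = _
    rw [uliftYonedaEquiv_symm_apply_app]
    rfl
  let W := pullback m ξ
  let fst : W ⟶ G := pullback.fst m ξ
  let snd : W ⟶ (pyon S).obj T := pullback.snd m ξ
  obtain ⟨hW, -⟩ := hm ξ fst snd (IsPullback.of_hasPullback m ξ)
  have sq : ∀ Z, IsPullback (fst.app Z) (snd.app Z) (m.app Z) (ξ.app Z) :=
    fun Z => (IsPullback.of_hasPullback m ξ).map ((evaluation _ _).obj Z)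
  have hinj : ∀ Z, Function.Injective (snd.app Z) := fun Z a b e => by
    refine Types.ext_of_isPullback (sq Z) ?_ e
    have hmZ : Mono (m.app Z) := inferInstance
    refine (mono_iff_injective (m.app Z)).1 hmZ ?_
    exact ((ConcreteCategory.congr_hom (sq Z).w a).trans (congrArg (ξ.app Z) e)).trans
      (ConcreteCategory.congr_hom (sq Z).w b).symm
  have hex : ∀ ⦃T' : Over S⦄ (f : T' ⟶ T), R.arrows f → ∃ w, snd.app (op T') w = ULift.up f := fun T' f hf => by
    have : ULift.up f ∈ Set.range (snd.app (op T')) := by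
      rw [Types.range_snd_of_isPullback (sq (op T'))]
      show (ξ.app (op T')) (ULift.up f) ∈ Set.range (m.app (op T'))
      rw [hξ]
      exact h f hf
    exact this
  choose w hw using hex
  let fam : Presieve.FamilyOfElements W R.arrows := fun T' f hf => w f hf
  have hfam : fam.Compatible := fun Y₁ Y₂ Z g₁ g₂ f₁ f₂ h₁ h₂ e => hinj _ (by
    have n₁ := ConcreteCategory.congr_hom (snd.naturality g₁.op) (w f₁ h₁)
    have n₂ := ConcreteCategory.congr_hom (snd.naturality g₂.op) (w f₂ h₂)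
    refine n₁.trans (Eq.trans ?_ n₂.symm)
    show ((pyon S).obj T).map g₁.op (snd.app _ (w f₁ h₁)) = ((pyon S).obj T).map g₂.op (snd.app _ (w f₂ h₂))
    rw [hw, hw]
    exact congrArg ULift.up e)
  obtain ⟨t, ht, -⟩ := ((isSheaf_iff_isSheaf_of_type (J S) W).1 hW) R hR fam hfam
  have hid : snd.app (op T) t = ULift.up (𝟙 T) := by
    refine (((isSheaf_iff_isSheaf_of_type (J S) ((pyon S).obj T)).1 ((yon S).obj T).property) R hR).isSeparatedFor.ext
      fun T' f hf => ?_
    refine (ConcreteCategory.congr_hom (snd.naturality f.op) t).symm.trans ?_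
    show snd.app _ (W.map f.op t) = _
    rw [ht f hf]
    exact (hw f hf).trans (congrArg ULift.up (Category.comp_id f).symm)
  refine ⟨fst.app (op T) t, (ConcreteCategory.congr_hom (sq (op T)).w t).trans ?_⟩
  show ξ.app (op T) (snd.app (op T) t) = x
  rw [hid, hξ]
  simp

theorem zariski_family_mem {T : Over S} {ι : Type*} {U : ι → Over S} (g : ∀ i, U i ⟶ T)
    [∀ i, IsOpenImmersion (g i).left] (hs : ∀ z : T.left, ∃ i, z ∈ Set.range (g i).left) :
    Sieve.ofArrows U g ∈ QuotSh.J Scheme.zariskiPrecoverage S T := by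
  rw [GrothendieckTopology.mem_over_iff]
  choose i u hu using hs
  let 𝒰 : Scheme.Cover.{u} Scheme.zariskiPrecoverage.{u} T.left := Scheme.Cover.mkOfCovers T.left
    (fun t => (U (i t)).left) (fun t => (g (i t)).left) (fun t => ⟨t, u t, hu t⟩) (fun t => inferInstanceAs (IsOpenImmersion (g (i t)).left))
  refine GrothendieckTopology.superset_covering _ ?_
    (Precoverage.generate_mem_toGrothendieck 𝒰.mem₀)
  rintro W v ⟨Z, a, _, ⟨t⟩, rfl⟩
  refine (Sieve.overEquiv_iff (Y := T) _ _).2 ?_
  refine ⟨U (i t), Over.homMk a (by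
    show a ≫ (U (i t)).hom = (a ≫ (g (i t)).left) ≫ T.hom
    rw [Category.assoc]
    exact congrArg _ (Over.w (g (i t))).symm), g (i t), ⟨i t⟩, ?_⟩
  exact Over.OverMorphism.ext rfl

variable {ι : Type v} {Fi : ι → PSp S} (m : ∀ i, Fi i ⟶ F)

/-- A flat morphism locally of finite presentation covers its open image. -/
theorem exists_image {U T : Over S} (g : U ⟶ T) [Flat g.left] [LocallyOfFinitePresentation g.left] :
    ∃ (V : Over S) (j : V ⟶ T) (g' : U ⟶ V), g' ≫ j = g ∧ IsOpenImmersion j.left ∧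
      Set.range g.left ⊆ Set.range j.left ∧ Sieve.ofArrows (fun _ : PUnit.{1} => U) (fun _ => g') ∈ J S V := by
  let B : T.left.Opens := ⟨Set.range g.left, g.left.isOpenMap.isOpen_range⟩
  have hr : Set.range g.left ⊆ Set.range B.ι := by rw [Scheme.Opens.range_ι]; exact subset_rfl
  let l := IsOpenImmersion.lift B.ι g.left hr
  have hl : l ≫ B.ι = g.left := IsOpenImmersion.lift_fac _ _ _
  let g' : U ⟶ Groth.L23.openOver T B := Over.homMk l (by
    show l ≫ B.ι ≫ T.hom = U.hom
    rw [reassoc_of% hl, Over.w g])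
  refine ⟨_, Groth.L23.openOverι T B, g', Over.OverMorphism.ext hl, inferInstanceAs (IsOpenImmersion B.ι), hr,
    Groth.L23.fppf_family_mem_J _ (fun _ => ?_) fun z => ?_⟩
  · show Flat l ∧ LocallyOfFinitePresentation l
    have h₁ : Flat (l ≫ B.ι) := by rw [hl]; infer_instance
    have h₂ : LocallyOfFinitePresentation (l ≫ B.ι) := by rw [hl]; infer_instance
    exact ⟨MorphismProperty.of_postcomp (W := @Flat) (W' := @IsOpenImmersion) l B.ι inferInstance h₁,
      MorphismProperty.of_postcomp (W := @LocallyOfFinitePresentation) (W' := @IsOpenImmersion) l B.ι inferInstance h₂⟩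
  · obtain ⟨u, hu⟩ : B.ι z ∈ Set.range g.left := (congrArg (fun A : Set T.left => B.ι z ∈ A) (Scheme.Opens.range_ι B)).mp ⟨z, rfl⟩
    exact ⟨⟨⟩, u, B.ι.injective ((Scheme.Hom.comp_apply l B.ι u).symm.trans (by rw [hl]; exact hu))⟩

variable [∀ i, Mono (m i)]
  (h1 : Presieve.IsSheaf (QuotSh.J Scheme.zariskiPrecoverage S) F)
  (ha : ∀ i, Presheaf.IsSheaf (J S) (Fi i)) (hb : ∀ i, RepBySp (m i))
  (hc : ∀ (T : Over S) (x : F.obj (op T)), ∃ R ∈ J S T,
      ∀ ⦃T' : Over S⦄ (f : T' ⟶ T), R.arrows f → ∃ i, F.map f.op x ∈ Set.range ((m i).app (op T')))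

include hb hc in
/-- Every section is Zariski locally in one of the subsheaves. -/
theorem exists_open_cover (T : Over S) (x : F.obj (op T)) :
    ∃ (V : T.left → Over S) (j : ∀ t, V t ⟶ T) (idx : T.left → ι), (∀ t, IsOpenImmersion (j t).left) ∧
      (∀ t, t ∈ Set.range (j t).left) ∧ ∀ t, F.map (j t).op x ∈ Set.range ((m (idx t)).app (op (V t))) := by
  obtain ⟨R, hR, h⟩ := hc T x
  obtain ⟨U, g, hg⟩ := Groth.L24.St.exists_family_of_mem_J hR
  choose idx hidx using fun t => h (g t) (hg t).1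
  have key : ∀ t, ∃ (V : Over S) (j : V ⟶ T), IsOpenImmersion j.left ∧ t ∈ Set.range j.left ∧
      F.map j.op x ∈ Set.range ((m (idx t)).app (op V)) := fun t => by
    obtain ⟨-, hfl, hfp, ht⟩ := hg t
    obtain ⟨V, j, g', hj, hoi, hr, hmem⟩ := exists_image (g t)
    refine ⟨V, j, hoi, hr ht, mem_range_of_cover (m (idx t)) (hb _) _ hmem ?_⟩
    rintro Z f ⟨_, a, _, ⟨⟩, rfl⟩
    obtain ⟨z, hz⟩ := hidx t
    refine ⟨(Fi (idx t)).map a.op z, ?_⟩
    rw [NatTrans.naturality_apply, hz, ← Functor.map_comp_apply, ← Functor.map_comp_apply]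
    rw [← op_comp, ← op_comp, Category.assoc, hj]
  choose V j h₁ h₂ h₃ using key
  exact ⟨V, j, idx, h₁, h₂, h₃⟩

include h1 ha hb hc in
theorem isSeparated {T : Over S} {R : Sieve T} (hR : R ∈ J S T) (x y : F.obj (op T))
    (h : ∀ ⦃T' : Over S⦄ (f : T' ⟶ T), R.arrows f → F.map f.op x = F.map f.op y) : x = y := by
  obtain ⟨V, j, idx, hoi, ht, hx⟩ := exists_open_cover m hb hc T x
  haveI := hoi
  refine (h1 _ (zariski_family_mem j fun t => ⟨t, ht t⟩)).isSeparatedFor.ext ?_
  rintro Z f ⟨_, a, _, ⟨t⟩, rfl⟩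
  rw [op_comp, Functor.map_comp_apply, Functor.map_comp_apply]
  refine congrArg _ ?_
  obtain ⟨z, hz⟩ := hx t
  have hR' := (J S).pullback_stable (j t) hR
  obtain ⟨z', hz'⟩ := mem_range_of_cover (m (idx t)) (hb _) (F.map (j t).op y) hR' fun Z f hf => by
    refine ⟨(Fi (idx t)).map f.op z, ?_⟩
    rw [NatTrans.naturality_apply, hz, ← Functor.map_comp_apply, ← Functor.map_comp_apply, ← op_comp]
    exact h _ hf
  suffices z = z' by rw [← hz, ← hz', this]
  refine (((isSheaf_iff_isSheaf_of_type (J S) (Fi (idx t))).1 (ha _)) _ hR').isSeparatedFor.ext fun Z f hf => ?_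
  refine (mono_iff_injective ((m (idx t)).app (op Z))).1 inferInstance ?_
  rw [NatTrans.naturality_apply, NatTrans.naturality_apply, hz, hz', ← Functor.map_comp_apply,
    ← Functor.map_comp_apply, ← op_comp]
  exact h _ hf

include h1 ha hb hc in
theorem isSheaf : Presieve.IsSheaf (J S) F := by
  intro T R hR x hx
  obtain ⟨U, g, hg⟩ := Groth.L24.St.exists_family_of_mem_J hR
  -- refine the family so that every member lies in a subsheaf
  have key : ∀ t : T.left, ∃ (V : Over S) (j : V ⟶ T) (y : F.obj (op V)), IsOpenImmersion j.left ∧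
      t ∈ Set.range j.left ∧ ∀ ⦃Z : Over S⦄ (f : Z ⟶ V) (hf : R.arrows (f ≫ j)), F.map f.op y = x (f ≫ j) hf := by
    intro t
    obtain ⟨hRg, hfl, hfp, u, hu⟩ := hg t
    obtain ⟨W, k, idx, hoi, hu', hW⟩ := exists_open_cover m hb hc (U t) (x (g t) hRg)
    let i := idx u
    let e : W u ⟶ T := k u ≫ g t
    haveI := hoi u
    haveI : Flat e.left := inferInstanceAs (Flat ((k u).left ≫ (g t).left))
    haveI : LocallyOfFinitePresentation e.left :=
      inferInstanceAs (LocallyOfFinitePresentation ((k u).left ≫ (g t).left))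
    obtain ⟨z, hz⟩ := hW u
    obtain ⟨V, j, e', he, hoj, hr, hmem⟩ := exists_image e
    have hRe : R.arrows e := R.downward_closed hRg (k u)
    have hz' : (m i).app _ z = x e hRe :=
      hz.trans (Presieve.compatible_iff_sieveCompatible _ |>.1 hx (g t) (k u) hRg).symm
    have hsheaf := (Presieve.isSheafFor_arrows_iff (Fi i) (fun _ : PUnit.{1} => e')).1
      ((Presieve.isSheafFor_iff_generate _).2 (((isSheaf_iff_isSheaf_of_type (J S) (Fi i)).1 (ha i)) _ hmem))
    obtain ⟨yi, hyi, -⟩ := hsheaf (fun _ => z) (by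
      rintro ⟨⟩ ⟨⟩ Z g₁ g₂ w
      refine (mono_iff_injective ((m i).app (op Z))).1 inferInstance ?_
      rw [NatTrans.naturality_apply, NatTrans.naturality_apply, hz']
      exact hx g₁ g₂ hRe hRe (by rw [← he, reassoc_of% w]))
    have hy : (Fi i).map e'.op yi = z := hyi ⟨⟩
    obtain ⟨w, hw⟩ := hu' u
    have hew : e.left w = t := by
      show ((k u).left ≫ (g t).left) w = t
      rw [Scheme.Hom.comp_apply, hw, hu]
    refine ⟨V, j, (m i).app _ yi, hoj, hr ⟨w, hew⟩, fun Z f hf => ?_⟩
    refine isSeparated m h1 ha hb hc ((J S).pullback_stable f hmem) _ _ fun Z' a hfa => ?_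
    obtain ⟨_, b, _, ⟨⟩, hb'⟩ := hfa
    have hbe : b ≫ e = (a ≫ f) ≫ j := by rw [← hb', Category.assoc, he]
    rw [← Functor.map_comp_apply, ← op_comp, ← hb', op_comp, Functor.map_comp_apply, ← NatTrans.naturality_apply,
      hy, hz']
    refine hx b a hRe hf ?_
    rw [hbe, Category.assoc]
  choose V j y hoj htj hy using key
  haveI := hoj
  have hxe : ∀ {Z : Over S} (f f' : Z ⟶ T) (h : R.arrows f) (h' : R.arrows f'), f = f' → x f h = x f' h' := by
    rintro Z f _ h h' rfl; rfl
  have hcov := zariski_family_mem j fun t => ⟨t, htj t⟩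
  obtain ⟨s, hs, -⟩ := ((Presieve.isSheafFor_arrows_iff F j).1
    ((Presieve.isSheafFor_iff_generate _).2 (h1 _ hcov))) y fun t t' Z a b w => by
      refine isSeparated m h1 ha hb hc ((J S).pullback_stable (a ≫ j t) hR) _ _ fun Z' c hc' => ?_
      rw [← Functor.map_comp_apply, ← Functor.map_comp_apply, ← op_comp, ← op_comp]
      have h₁ : R.arrows ((c ≫ a) ≫ j t) := by rw [Category.assoc]; exact hc'
      have h₂ : R.arrows ((c ≫ b) ≫ j t') := by rw [Category.assoc, ← w]; exact hc'
      rw [hy t _ h₁, hy t' _ h₂]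
      exact hxe _ _ _ _ (by simp only [Category.assoc, w])
  have hx' := (Presieve.compatible_iff_sieveCompatible x).1 hx
  have hex : ∀ ⦃Z : Over S⦄ (f : Z ⟶ T) (hf : R.arrows f), F.map f.op s = x f hf := fun Z f hf => by
    refine (h1 _ ((QuotSh.J Scheme.zariskiPrecoverage S).pullback_stable f hcov)).isSeparatedFor.ext ?_
    rintro Z' a ⟨_, b, _, ⟨t⟩, hb'⟩
    have h₁ : R.arrows (b ≫ j t) := hb' ▸ R.downward_closed hf a
    rw [← Functor.map_comp_apply, ← op_comp, ← hb', op_comp, Functor.map_comp_apply, hs t, hy t b h₁]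
    exact (hxe _ _ _ (R.downward_closed hf a) hb').trans (hx' f a hf)
  exact ⟨s, hex, fun s' hs' => isSeparated m h1 ha hb hc hR _ _ fun Z f hf => (hs' f hf).trans (hex f hf).symm⟩

end Groth.L09.SubsheafCover
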